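import Cfsg.Agent.H450.Bs.GenU
import Cfsg.Agent.H450.Bs.Herm

/-!
# BS32: irreducible subgroups of the special unitary group containing `SU(W)`, `dim W ≥ 4` (helper450, S5733)
-/

set_option autoImplicit false

namespace Cfsg.Agent.H450.Bs

open Module Cfsg.Agent.H91.U Cfsg.Agent.H847.Bs Cfsg.Agent.LieClassical.HermBasic

variable {F V : Type*} [Field F] [AddCommGroup V] [Module F V] {Φ : Frm F V} {r : ℕ}

/-- **generation, SU** (`dim W ≥ 4`) -/
theorem gen_su' [Finite F] [FiniteDimensional F V] (hΦ : IsHerm r Φ) {H : Subgroup (V ≃ₗ[F] V)}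
    (hH : H ≤ Φ.Iso ⊓ slV F V) (irr : IrrG H) {W U : Submodule F V} (hd : Φ.Dec W U) (h4 : 4 ≤ finrank F W)
    (hon : HasOn (Φ.Iso ⊓ slV F V) H W U) :
    Φ.Iso ⊓ slV F V ≤ H ∨ ∃ D : Submodule F V, Blk Φ H D ∧ 4 ≤ finrank F D := by
  have := Fintype.ofFinite F
  have hF : Fintype.card F = r ^ 2 := by rw [← Nat.card_eq_fintype_card, hΦ.card]
  have hB := hform_toB hF hΦ
  have hi : ∀ h ∈ H, ∀ x y, toB hF hΦ (h x) (h y) = toB hF hΦ x y := fun h hh => (iso_iff hF hΦ).1 (hH hh).1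
  have hWW : WW (toB hF hΦ) H W := by
    refine ⟨fun x hx h => hΦ.nd x fun v => ?_, fun c hc hc0 hcc l hl g hg => ?_⟩
    · obtain ⟨w, hw, u, hu, rfl⟩ := Submodule.mem_sup.1 (hd.compl.sup_eq_top.ge (Submodule.mem_top (x := v)))
      rw [Φ.add_right, Φ.refl _ _ (h w hw), hd.orth x hx u hu, add_zero]
    · refine hon g ?_ (fun w hw => ?_) fun u hu => ?_
      · rw [← siso_toB hF hΦ]
        exact hg.mem hB hcc hl
      · rw [hg w]
        exact W.add_mem hw (W.smul_mem _ hc)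
      · rw [hg u, toB_apply, Φ.refl _ _ (hd.orth c hc u hu), mul_zero, zero_smul, add_zero]
  rcases main hB hi irr hWW h4 with h | ⟨D, hD, hnd, ho, hD4⟩
  · left
    rwa [siso_toB] at h
  · right
    refine ⟨D, ⟨hD, fun x hx h => hnd x hx fun y hy => Φ.refl _ _ (h y hy), fun h hh => ?_⟩, hD4⟩
    rcases ho h hh with h1 | h1
    · exact Or.inl h1
    · exact Or.inr fun x hx y hy => Φ.refl _ _ (h1 x hx y hy)

/-- **BS32: generation, SU** -/
theorem gen_su [Finite F] [FiniteDimensional F V] (hΦ : IsHerm r Φ) {H : Subgroup (V ≃ₗ[F] V)}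
    (hH : H ≤ Φ.Iso ⊓ slV F V) (irr : IrrG H) {W U : Submodule F V} (hd : Φ.Dec W U) (h4 : finrank F W = 4)
    (hon : HasOn (Φ.Iso ⊓ slV F V) H W U) :
    Φ.Iso ⊓ slV F V ≤ H ∨ ∃ D : Submodule F V, Blk Φ H D ∧ 4 ≤ finrank F D :=
  gen_su' hΦ hH irr hd h4.ge hon

end Cfsg.Agent.H450.Bs
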