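import Cfsg.Agent.H450.UF.Model
import Cfsg.Agent.S0780

/-!
# Unitary transvections, generation of the special isometry group (helper450, S5733 BS32)

* `IsTv B c l g` : `g x = x + l B(c, x) c`;
* `exists_tv`, `IsTv.isom`, `IsTv.mem`, `IsTv.conj`, `IsTv.trace`;
* `gen` : a subgroup of `GL(V)` which contains all unitary transvections contains `SIso B` (dimension at least four).
-/

set_option autoImplicit false
set_option linter.unusedSectionVars false

namespace Cfsg.Agent.H450.Bs

open Module Cfsg.Agent.H91.U Cfsg.Agent.H450.UF Cfsg.Agent.LieClassical.HermBasic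
open Cfsg.Agent.H77.Witt (formB formB_apply)
open scoped Matrix

variable {F V : Type*} [Field F] [AddCommGroup V] [Module F V] {σ : F →+* F} {B : V →ₛₗ[σ] V →ₗ[F] F}

variable (B) in
/-- `g` is the unitary transvection with centre `c` and parameter `l` -/
def IsTv (c : V) (l : F) (g : V ≃ₗ[F] V) : Prop := ∀ x, g x = x + (l * B c x) • c

theorem exists_tv {c : V} (hc : B c c = 0) (l : F) : ∃ g : V ≃ₗ[F] V, IsTv B c l g :=
  ⟨LinearEquiv.transvection (f := l • B c) (v := c) (by rw [LinearMap.smul_apply, hc, smul_zero]), fun x => by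
    rw [LinearEquiv.transvection.apply, LinearMap.smul_apply, smul_eq_mul]⟩

theorem IsTv.isom (hB : HForm B) {c : V} (hc : B c c = 0) {l : F} (hl : l + σ l = 0) {g : V ≃ₗ[F] V}
    (hg : IsTv B c l g) (x y : V) : B (g x) (g y) = B x y := by
  rw [hg, hg, map_add, map_add, LinearMap.add_apply, LinearMap.add_apply, smul_left, smul_left, smul_right,
    smul_right, hc, map_mul, ← sw hB c x]
  linear_combination (B x c * B c y) * hl

theorem IsTv.det [FiniteDimensional F V] {c : V} (hc : B c c = 0) {l : F} {g : V ≃ₗ[F] V} (hg : IsTv B c l g) :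
    LinearMap.det (g : V →ₗ[F] V) = 1 := by
  have h : (g : V →ₗ[F] V) = LinearMap.transvection (l • B c) c := by
    ext x
    rw [LinearMap.transvection.apply, LinearMap.smul_apply, smul_eq_mul]
    exact hg x
  rw [h, LinearMap.transvection.det, LinearMap.smul_apply, hc, smul_zero, add_zero]

theorem IsTv.mem [FiniteDimensional F V] (hB : HForm B) {c : V} (hc : B c c = 0) {l : F} (hl : l + σ l = 0)
    {g : V ≃ₗ[F] V} (hg : IsTv B c l g) : g ∈ SIso B :=
  ⟨Units.ext (by rw [LinearEquiv.coe_det, hg.det hc, Units.val_one]), hg.isom hB hc hl⟩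

theorem IsTv.conj {c : V} {l : F} {g h : V ≃ₗ[F] V} (hh : ∀ x y, B (h x) (h y) = B x y) (hg : IsTv B (h c) l g) :
    IsTv B c l (h⁻¹ * g * h) := by
  intro x
  apply h.injective
  have h1 : h ((h⁻¹ * g * h) x) = g (h x) := by
    change h (h.symm (g (h x))) = g (h x)
    exact h.apply_symm_apply _
  rw [h1, hg, hh, map_add, map_smul]

theorem IsTv.trace (hB : HForm B) {c : V} (hc0 : c ≠ 0) (hc : B c c = 0) {l : F} {g : V ≃ₗ[F] V} (hg : IsTv B c l g)
    (hi : ∀ x y, B (g x) (g y) = B x y) : l + σ l = 0 := by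
  obtain ⟨x, hx⟩ := hB.exists_ne hc0
  have h1 := hi x x
  rw [hg, map_add, map_add, LinearMap.add_apply, LinearMap.add_apply, smul_left, smul_left, smul_right,
    smul_right, hc, map_mul, ← sw hB c x] at h1
  have hx' : B x c ≠ 0 := fun e => hx (hB.swap_zero e)
  have h2 : (l + σ l) * (B x c * B c x) = 0 := by linear_combination h1
  exact (mul_eq_zero.1 h2).resolve_right (mul_ne_zero hx' hx)

/-- **generation by transvections** -/
theorem gen [Finite F] [FiniteDimensional F V] (hB : HForm B) (hn : 4 ≤ finrank F V) {K : Subgroup (V ≃ₗ[F] V)}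
    (hK : ∀ c : V, c ≠ 0 → B c c = 0 → ∀ l : F, l + σ l = 0 → ∀ g : V ≃ₗ[F] V, IsTv B c l g → g ∈ K) :
    SIso B ≤ K := by
  have := Fintype.ofFinite F
  let τ : F ≃+* F := { σ with
    invFun := σ
    left_inv := hB.invol
    right_inv := hB.invol }
  obtain ⟨q, hF, -⟩ := Cfsg.Agent.H895.SLT.unitary_sigma (σ := τ) hB.invol (fun e => hB.ne_id (by
    ext a
    exact congrArg (fun f : F ≃+* F => f a) e))
  obtain ⟨n, hn, φ, hφ⟩ : ∃ n, 4 ≤ n ∧ ∃ φ : V ≃ₗ[F] (Fin n → F), ∀ v w, B v w = hermForm n F q (φ w) (φ v) :=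
    ⟨_, hn, exists_model hF hB⟩
  have hφ' : ∀ v w : Fin n → F, B (φ.symm v) (φ.symm w) = hermForm n F q w v := fun v w => by
    rw [hφ, φ.apply_symm_apply, φ.apply_symm_apply]
  -- the isometry of `V` attached to an element of `SU`
  have key : ∀ A : SU n F q, ∀ g : V ≃ₗ[F] V, (∀ x, g x = φ.symm ((toIso hF A).1 (φ x))) → g ∈ K := by
    intro A
    have hA : A ∈ Subgroup.closure {A : ↥(Cfsg.SU n F q) | ∃ (v : Fin n → F) (c : F), Cfsg.hermForm n F q v v = 0 ∧
        ((A : Matrix.SpecialLinearGroup (Fin n) F) : Matrix (Fin n) (Fin n) F) =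
          Cfsg.unitaryTransvection n q v c} := by
      rw [Cfsg.Agent.S0780.result hF n (by omega) (by omega)]
      exact Subgroup.mem_top A
    induction hA using Subgroup.closure_induction with
    | mem A hA =>
      intro g hg
      obtain ⟨v, c, hv, hA⟩ := hA
      have hact : ∀ y : Fin n → F, (toIso hF A).1 y = y + (c * hermForm n F q y v) • v := by
        intro y
        rw [toIso_apply]
        change ((A : Matrix.SpecialLinearGroup (Fin n) F) : Matrix (Fin n) (Fin n) F) *ᵥ y = _
        rw [hA, unitaryTransvection, Matrix.add_mulVec, Matrix.one_mulVec, Matrix.smul_mulVec,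
          Matrix.vecMulVec_mulVec]
        congr 1
        have : (fun j => v j ^ q) ⬝ᵥ y = hermForm n F q y v := by
          rw [herm_def, dotProduct]
          exact Finset.sum_congr rfl fun i _ => mul_comm _ _
        rw [this, op_smul_eq_smul, smul_smul]
      have hT : IsTv B (φ.symm v) c g := by
        intro x
        rw [hg, hact, map_add, map_smul, φ.symm_apply_apply]
        have := hφ' v (φ x)
        rw [φ.symm_apply_apply] at this
        rw [this]
      by_cases h0 : v = 0
      · have : g = 1 := by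
          ext x
          rw [hT x, h0, map_zero, smul_zero, add_zero]
          rfl
        rw [this]
        exact K.one_mem
      have h0' : φ.symm v ≠ 0 := fun e => h0 ((LinearEquiv.map_eq_zero_iff φ.symm).1 e)
      have hvv : B (φ.symm v) (φ.symm v) = 0 := by rw [hφ', hv]
      refine hK _ h0' hvv c (hT.trace hB h0' hvv fun x y => ?_) g hT
      rw [hg, hg, hφ, hφ, φ.apply_symm_apply, φ.apply_symm_apply]
      exact (toIso hF A).2.2 (φ x) (φ y)
    | one =>
      intro g hg
      have : g = 1 := by
        ext x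
        rw [hg, map_one]
        exact φ.symm_apply_apply x
      rw [this]
      exact K.one_mem
    | mul A A' _ _ ih ih' =>
      intro g hg
      have h1 := ih ((φ.trans (toIso hF A).1).trans φ.symm) fun x => rfl
      have h2 := ih' ((φ.trans (toIso hF A').1).trans φ.symm) fun x => rfl
      have : g = ((φ.trans (toIso hF A).1).trans φ.symm) * ((φ.trans (toIso hF A').1).trans φ.symm) := by
        ext x
        rw [hg, map_mul]
        change _ = φ.symm ((toIso hF A).1 (φ (φ.symm ((toIso hF A').1 (φ x)))))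
        rw [φ.apply_symm_apply]
        rfl
      rw [this]
      exact K.mul_mem h1 h2
    | inv A _ ih =>
      intro g hg
      have h1 := ih ((φ.trans (toIso hF A).1).trans φ.symm) fun x => rfl
      have : g = ((φ.trans (toIso hF A).1).trans φ.symm)⁻¹ := by
        rw [eq_inv_iff_mul_eq_one]
        ext x
        change g (φ.symm ((toIso hF A).1 (φ x))) = x
        rw [hg, φ.apply_symm_apply, map_inv]
        change φ.symm (((toIso hF A)⁻¹ * (toIso hF A)).1 (φ x)) = x
        rw [inv_mul_cancel]
        exact φ.symm_apply_apply x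
      rw [this]
      exact K.inv_mem h1
  intro g hg
  have hg' : (φ.symm.trans g).trans φ ∈ SIso (formB hF n) := by
    refine ⟨?_, fun x y => ?_⟩
    · rw [← hg.1]
      have : (φ.symm.trans g).trans φ = φ.symm ≪≫ₗ g ≪≫ₗ φ := rfl
      rw [this]
      have h2 := LinearEquiv.det_conj g φ
      exact h2
    · rw [formB_apply, formB_apply]
      change hermForm n F q (φ (g (φ.symm y))) (φ (g (φ.symm x))) = _
      rw [← hφ, hg.2, hφ']
  refine key ((toIso hF).symm ⟨_, hg'⟩) g fun x => ?_
  rw [MulEquiv.apply_symm_apply]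
  change _ = φ.symm (φ (g (φ.symm (φ x))))
  rw [φ.symm_apply_apply, φ.symm_apply_apply]

end Cfsg.Agent.H450.Bs
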